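import Groth.Agent.TauSet.Basic
import Groth.Agent.SmNeutral.Core
import Mathlib

/-!
# The neutral components form an open subgroup over a non-empty open of the base
-/

set_option autoImplicit false

universe u

open CategoryTheory CategoryTheory.Limits MonoidalCategory CartesianMonoidalCategory MonObj AlgebraicGeometry
open Topology TopologicalSpace

set_option backward.isDefEq.respectTransparency false
set_option backward.isDefEq.respectTransparency.types false
set_option linter.style.haveILetI false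

noncomputable section

namespace Groth.Agent.TauSet

variable {S : Scheme.{u}} (G : Over S) [GrpObj G]

omit [GrpObj G] in
/-- points in the closure of a constructible set are specialisations of its points -/
theorem exists_specializes_of_mem_closure {X : Type u} [TopologicalSpace X] [NoetherianSpace X] [QuasiSober X]
    {C : Set X} (hC : IsConstructible C) {x : X} (hx : x ∈ closure C) : ∃ y ∈ C, y ⤳ x := by
  suffices h : closure (C ∩ Set.univ) ⊆ {x | ∃ y ∈ C, y ⤳ x} by
    rw [Set.inter_univ] at h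
    exact h hx
  refine NoethSober.induction_generic (P := fun Z => closure (C ∩ Z) ⊆ {x | ∃ y ∈ C, y ⤳ x}) (by simp)
    (fun Z W h₁ h₂ => by
      rw [Set.inter_union_distrib_left, closure_union]
      exact Set.union_subset h₁ h₂) (fun a ih => ?_) _ isClosed_univ
  obtain ⟨U, hU, haU, ⟨ha, -⟩ | ⟨-, hUC⟩⟩ := NoethSober.exists_open_inter_closure_singleton hC a
  · exact fun z hz => ⟨a, ha, specializes_iff_mem_closure.2
      (closure_minimal Set.inter_subset_right isClosed_closure hz)⟩
  · refine Set.Subset.trans (closure_mono ?_) (ih (closure {a} \ U) (isClosed_closure.sdiff hU)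
      Set.sdiff_subset fun hn => hn.2 haU)
    exact fun z hz => ⟨hz.1, hz.2, fun hzU => hUC ⟨hzU, hz.2⟩ hz.1⟩

/-- open neutral components form an open subgroup scheme -/
theorem exists_grpObj_neutral [LocallyOfFiniteType G.hom] (O : G.left.Opens)
    (hO : (O : Set G.left) = SGA3x.neutralSet G) :
    ∃ _ : GrpObj (Over.mk (O.ι ≫ G.hom)), IsMonHom (SmNeutral.openSub G O) := by
  refine SmNeutral.exists_grpObj_openSub G O (fun p => ?_) ?_
  · rw [← SetLike.mem_coe, hO]
    exact Set.mem_iUnion.2 ⟨p, mem_connectedComponentIn (by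
      show G.hom.base (η[G].left.base p) = (𝟙_ (Over S)).hom.base p
      exact GrpDim.hom_section G p)⟩
  · let H : Over S := Over.mk (O.ι ≫ G.hom)
    rintro _ ⟨w, rfl⟩
    obtain ⟨L, _, _, q, t, ht⟩ : ∃ (L : Type u) (_ : Field L) (_ : IsAlgClosed L)
        (q : Spec (CommRingCat.of L) ⟶ S) (t : Over.mk q ⟶ H ⊗ H), t.left (IsLocalRing.closedPoint L) = w := by
      refine ⟨AlgebraicClosure ((H ⊗ H).left.residueField w), inferInstance, inferInstance,
        (Spec.map (CommRingCat.ofHom (algebraMap ((H ⊗ H).left.residueField w) _)) ≫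
          (H ⊗ H).left.fromSpecResidueField w) ≫ (H ⊗ H).hom,
        Over.homMk (Spec.map (CommRingCat.ofHom (algebraMap ((H ⊗ H).left.residueField w) _)) ≫
          (H ⊗ H).left.fromSpecResidueField w) rfl, ?_⟩
      show (Spec.map _ ≫ (H ⊗ H).left.fromSpecResidueField w) _ = w
      rw [Scheme.Hom.comp_apply, Scheme.fromSpecResidueField_apply]
    rw [SetLike.mem_coe, ← SetLike.mem_coe, hO]
    subst ht
    show pt G (t ≫ ((fst H H ≫ SmNeutral.openSub G O)⁻¹ * (snd H H ≫ SmNeutral.openSub G O))) ∈ SGA3x.neutralSet G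
    rw [MonObj.comp_mul, GrpObj.comp_inv]
    have key : ∀ c : Over.mk q ⟶ H, c ≫ SmNeutral.openSub G O ∈ neutralSub G q := fun c => by
      rw [mem_neutralSub, ← hO]
      exact (c.left (IsLocalRing.closedPoint L)).2
    exact mul_mem (inv_mem (key (t ≫ fst H H))) (key (t ≫ snd H H))

/-- **Generic openness of the neutral components.** -/
theorem exists_open_neutral [IsLocallyNoetherian S] [Nonempty S] [LocallyOfFiniteType G.hom] :
    ∃ (U : S.Opens) (W : G.left.Opens), (U : Set S).Nonempty ∧ IsAffineOpen U ∧ IsCompact (W : Set G.left) ∧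
      (W : Set G.left) = SGA3x.neutralSet G ∩ G.hom.base ⁻¹' U := by
  have := lfp G
  have := isLocallyNoetherian_left G
  obtain ⟨s₀⟩ := ‹Nonempty S›
  obtain ⟨e, hgen⟩ := QuasiSober.sober (isIrreducible_irreducibleComponent (x := s₀)) isClosed_irreducibleComponent
  have hmax : ∀ t, t ⤳ e → t = e := fun t ht => by
    refine (ht.antisymm (hgen.specializes ?_)).eq
    have hsub : irreducibleComponent s₀ ⊆ closure {t} := by
      rw [← hgen.def]
      exact closure_minimal (Set.singleton_subset_iff.2 ht.mem_closure) isClosed_closure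
    rw [← eq_irreducibleComponent isIrreducible_singleton.closure.isPreirreducible hsub]
    exact subset_closure rfl
  obtain ⟨W₀, hW₀, hsW₀⟩ := exists_compact_open_comp0 G e
  obtain ⟨V, hV, heV, -⟩ := exists_isAffineOpen_mem_and_subset (show e ∈ (⊤ : S.Opens) from trivial)
  have : IsAffine (V : Scheme.{u}) := hV
  have : LocallyOfFinitePresentation ((Over.pullback V.ι).obj G).hom :=
    inferInstanceAs (LocallyOfFinitePresentation (pullback.snd G.hom V.ι))
  obtain ⟨K, hK, hNK⟩ := GrpDim.exists_isCompact_neutralSet ((Over.pullback V.ι).obj G)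
  let p := pullback.fst G.hom V.ι
  have hA : ∀ x : G.left, ∃ A : G.left.Opens, x ∈ A ∧ IsCompact (A : Set G.left) := fun x => by
    obtain ⟨A, hA, hxA, -⟩ := exists_isAffineOpen_mem_and_subset (show x ∈ (⊤ : G.left.Opens) from trivial)
    exact ⟨A, hxA, hA.isCompact⟩
  choose A hxA hAc using hA
  obtain ⟨t, ht⟩ := (hK.image p.continuous).elim_finite_subcover (fun x => (A x : Set G.left)) (fun x => (A x).2)
    (fun x _ => Set.mem_iUnion.2 ⟨x, hxA x⟩)
  let W₁ : G.left.Opens := ⨆ x ∈ t, A x
  have hW₁ : IsCompact (W₁ : Set G.left) := by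
    simp only [W₁, Opens.coe_iSup]
    exact t.finite_toSet.isCompact_biUnion fun x _ => hAc x
  have hsub : SGA3x.neutralSet G ∩ G.hom.base ⁻¹' V ⊆ W₁ := by
    rintro x ⟨hx, hxV⟩
    obtain ⟨w, hw⟩ : x ∈ Set.range p := by
      rw [IsOpenImmersion.range_pullbackFst, Scheme.Opens.opensRange_ι]
      exact hxV
    have hwN : w ∈ SGA3x.neutralSet ((Over.pullback V.ι).obj G) := by
      rw [GrpDim.neutralSet_iff, GrpDim.comp0_bc_iff, ← GrpDim.neutralSet_iff,
        show pullback.fst G.hom V.ι w = x from hw]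
      exact hx
    simp only [W₁, Opens.coe_iSup]
    exact ht ⟨w, hNK hwN, hw⟩
  let W₂ : G.left.Opens := W₁ ⊓ G.hom ⁻¹ᵁ V
  let f := W₂.ι ≫ G.hom
  let E : Set ↥(W₂ : Scheme.{u}) := W₂.ι.base ⁻¹' SGA3x.neutralSet G
  have hE : IsLocallyConstructible E :=
    ConsEngine.isLocallyConstructible_preimage _ (isLocallyConstructible_neutralSet G)
  let B : Set ↥(W₂ : Scheme.{u}) := E ∩ closure Eᶜ
  have hcW₂ : IsCompact (W₂ : Set G.left) := by
    have : QuasiSeparatedSpace G.left := inferInstance
    have : QuasiCompact (p : _ ⟶ G.left) := inferInstance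
    have h := p.isCompact_preimage hW₁
    have h2 := h.image p.continuous
    convert h2 using 1
    ext x
    constructor
    · rintro ⟨hx1, hx2⟩
      obtain ⟨w, rfl⟩ : x ∈ Set.range p := by
        rw [IsOpenImmersion.range_pullbackFst, Scheme.Opens.opensRange_ι]
        exact hx2
      exact ⟨w, hx1, rfl⟩
    · rintro ⟨w, hw, rfl⟩
      refine ⟨hw, ?_⟩
      have : p w ∈ Set.range p := ⟨w, rfl⟩
      rwa [IsOpenImmersion.range_pullbackFst, Scheme.Opens.opensRange_ι] at this
  have : CompactSpace ↥(W₂ : Scheme.{u}) := isCompact_iff_compactSpace.1 hcW₂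
  have : AlgebraicGeometry.IsNoetherian (W₂ : Scheme.{u}) := ⟨⟩
  have hB : IsLocallyConstructible B :=
    hE.inter (ConsEngine.isLocallyConstructible_of_isClosed isClosed_closure)
  have : LocallyOfFinitePresentation f := inferInstance
  have : QuasiCompact f := inferInstance
  have heB : e ∉ f.base '' B := by
    rintro ⟨b, ⟨hbE, hbc⟩, hbe⟩
    obtain ⟨y, hy, hyb⟩ := exists_specializes_of_mem_closure
      (ConsTop.isLocallyConstructible_compl hE).isConstructible hbc
    refine hy ?_
    have hye : G.hom (W₂.ι y) = e := hmax _ (hbe ▸ hyb.map f.continuous)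
    show W₂.ι y ∈ SGA3x.neutralSet G
    rw [GrpDim.neutralSet_iff, hye]
    have hbN := (GrpDim.neutralSet_iff G _).1 (show W₂.ι b ∈ SGA3x.neutralSet G from hbE)
    rw [show G.hom (W₂.ι b) = e from hbe] at hbN
    show W₂.ι y ∈ connectedComponentIn (G.hom.base ⁻¹' {e}) (η[G].left e)
    rw [connectedComponentIn_eq hbN]
    have hpair : _root_.IsPreconnected ({W₂.ι y, W₂.ι b} : Set G.left) :=
      isPreconnected_singleton.subset_closure (Set.singleton_subset_iff.2 (Or.inl rfl)) (by
        rintro z (rfl | rfl)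
        · exact subset_closure rfl
        · exact (hyb.map W₂.ι.continuous).mem_closure)
    refine hpair.subset_connectedComponentIn (Or.inr rfl) ?_ (Or.inl rfl)
    rintro z (rfl | rfl)
    · exact hye
    · exact hbe
  obtain ⟨O, hOs, hOo, heO⟩ := mem_nhds_iff.1 (Unibranch.mem_nhds_of_isLocallyConstructible
    (ConsTop.isLocallyConstructible_compl (f.isLocallyConstructible_image hB))
    (fun y hy => by rw [hmax y hy]; exact heB))
  obtain ⟨U, hU, heU, hUle⟩ := exists_isAffineOpen_mem_and_subset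
    (show e ∈ (⟨O, hOo⟩ : S.Opens) ⊓ V from ⟨heO, heV⟩)
  let W : G.left.Opens := W₂.ι ''ᵁ ⟨(closure Eᶜ)ᶜ, isClosed_closure.isOpen_compl⟩ ⊓ G.hom ⁻¹ᵁ U
  refine ⟨U, W, ⟨e, heU⟩, hU, ?_, ?_⟩
  · have hsubW : (W : Set G.left) ⊆ W₂.ι '' Set.univ := by
      rintro x ⟨⟨z, -, rfl⟩, -⟩
      exact ⟨z, trivial, rfl⟩
    rw [show (W : Set G.left) = W₂.ι '' (W₂.ι ⁻¹' W) by
      rw [Set.image_preimage_eq_of_subset (hsubW.trans (Set.image_subset_range _ _))]]
    exact (NoetherianSpace.isCompact _).image W₂.ι.continuous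
  · ext x
    constructor
    · rintro ⟨⟨z, hz, rfl⟩, hxU⟩
      exact ⟨by_contra fun h => hz (subset_closure h), hxU⟩
    · rintro ⟨hx, hxU⟩
      refine ⟨⟨⟨x, hsub ⟨hx, (hUle hxU).2⟩, (hUle hxU).2⟩, fun hc => ?_, rfl⟩, hxU⟩
      exact hOs (hUle hxU).1 ⟨_, ⟨hx, hc⟩, rfl⟩

end Groth.Agent.TauSet
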