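import Groth.Agent.GrpDim.Construct
import Groth.Agent.SubGen.SpreadBase
import Groth.Agent.GeomFib.OpenCriterion
import Groth.Agent.NoethSober.Basic
import Mathlib

/-!
# The torsion points of the component groups of a commutative group scheme

For a group scheme `G` over a locally Noetherian base, `tau G n` is the set of points whose `n`-th power
lies in the neutral component of the fibre.
-/

set_option autoImplicit false

universe u

open CategoryTheory CategoryTheory.Limits MonoidalCategory CartesianMonoidalCategory MonObj AlgebraicGeometry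
open Topology TopologicalSpace

set_option backward.isDefEq.respectTransparency false
set_option backward.isDefEq.respectTransparency.types false
set_option linter.style.haveILetI false

noncomputable section

namespace Groth.Agent.TauSet

variable {S : Scheme.{u}} (G : Over S) [GrpObj G]

/-- the points whose `n`-th power is in the neutral component of the fibre -/
def tau (n : ℕ) : Set G.left :=
  ((𝟙 G : G ⟶ G) ^ n).left.base ⁻¹' SGA3x.neutralSet G

variable {L : Type u} [Field L] {q : Spec (CommRingCat.of L) ⟶ S}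

/-- the point of a field valued point -/
def pt (a : Over.mk q ⟶ G) : G.left := a.left (IsLocalRing.closedPoint L)

omit [GrpObj G] in
theorem hom_pt (a : Over.mk q ⟶ G) : G.hom (pt G a) = q (IsLocalRing.closedPoint L) :=
  (Scheme.Hom.comp_apply _ _ _).symm.trans (congrArg (fun k => k (IsLocalRing.closedPoint L)) (Over.w a))

theorem pow_eq (a : Over.mk q ⟶ G) (n : ℕ) : a ≫ ((𝟙 G : G ⟶ G) ^ n) = a ^ n := by
  induction n with
  | zero => rw [pow_zero, pow_zero, MonObj.comp_one]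
  | succ k ih => rw [pow_succ, pow_succ, MonObj.comp_mul, ih, Category.comp_id]

theorem pt_pow (a : Over.mk q ⟶ G) (n : ℕ) : pt G (a ^ n) = ((𝟙 G : G ⟶ G) ^ n).left (pt G a) := by
  rw [← pow_eq]
  rfl

theorem mem_tau_iff (a : Over.mk q ⟶ G) (n : ℕ) : pt G a ∈ tau G n ↔ pt G (a ^ n) ∈ SGA3x.neutralSet G := by
  rw [pt_pow]
  rfl

theorem pow_left_hom (n : ℕ) (x : G.left) : G.hom (((𝟙 G : G ⟶ G) ^ n).left x) = G.hom x := by
  rw [← Scheme.Hom.comp_apply, Over.w]

section lft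

variable [LocallyOfFiniteType G.hom]

variable (q) in
/-- field valued points of the neutral components -/
def neutralSub : Subgroup (Over.mk q ⟶ G) where
  carrier := {a | pt G a ∈ SGA3x.neutralSet G}
  one_mem' := by
    show pt G (1 : Over.mk q ⟶ G) ∈ SGA3x.neutralSet G
    rw [GrpDim.neutralSet_iff, hom_pt]
    have h : pt G (1 : Over.mk q ⟶ G) = η[G].left (q (IsLocalRing.closedPoint L)) := by
      rw [pt, Hom.one_def, Over.comp_left, Scheme.Hom.comp_apply]
      rfl
    rw [h]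
    exact mem_connectedComponentIn (GrpDim.hom_section G _)
  mul_mem' {a b} ha hb := by
    have e1 : (fst G G).left ((lift a b).left (IsLocalRing.closedPoint L)) = pt G a :=
      congrArg (fun k : Over.mk q ⟶ G => k.left (IsLocalRing.closedPoint L)) (lift_fst a b)
    have e2 : (snd G G).left ((lift a b).left (IsLocalRing.closedPoint L)) = pt G b :=
      congrArg (fun k : Over.mk q ⟶ G => k.left (IsLocalRing.closedPoint L)) (lift_snd a b)
    have h := GrpDim.mul_mem_comp0 G (z := (lift a b).left (IsLocalRing.closedPoint L))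
      (by rw [e1]; exact (GrpDim.neutralSet_iff G _).1 ha) (by rw [e2]; exact (GrpDim.neutralSet_iff G _).1 hb)
    exact (GrpDim.neutralSet_iff G _).2 h
  inv_mem' {a} ha := by
    have e : pt G a⁻¹ = (GrpObj.inv (X := G)).left (pt G a) := by
      rw [pt, Hom.inv_def]
      rfl
    show pt G a⁻¹ ∈ SGA3x.neutralSet G
    rw [GrpDim.neutralSet_iff, hom_pt, e, ← hom_pt G a]
    exact GrpDim.inv_mem_comp0 G ((GrpDim.neutralSet_iff G _).1 ha)

theorem mem_neutralSub {a : Over.mk q ⟶ G} : a ∈ neutralSub G q ↔ pt G a ∈ SGA3x.neutralSet G := Iff.rfl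

theorem exists_geom (x : G.left) :
    ∃ (L : Type u) (_ : Field L) (_ : IsAlgClosed L) (q : Spec (CommRingCat.of L) ⟶ S) (a : Over.mk q ⟶ G),
      pt G a = x := by
  refine ⟨AlgebraicClosure (G.left.residueField x), inferInstance, inferInstance,
    (Spec.map (CommRingCat.ofHom (algebraMap (G.left.residueField x) _)) ≫ G.left.fromSpecResidueField x) ≫ G.hom,
    Over.homMk (Spec.map (CommRingCat.ofHom (algebraMap (G.left.residueField x) _)) ≫ G.left.fromSpecResidueField x) rfl, ?_⟩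
  show (Spec.map _ ≫ G.left.fromSpecResidueField x) _ = x
  rw [Scheme.Hom.comp_apply, Scheme.fromSpecResidueField_apply]

theorem tau_mono {n m : ℕ} (h : n ∣ m) : tau G n ⊆ tau G m := by
  intro x hx
  obtain ⟨L, _, _, q, a, rfl⟩ := exists_geom G x
  obtain ⟨k, rfl⟩ := h
  rw [mem_tau_iff, ← mem_neutralSub, pow_mul]
  exact (neutralSub G q).pow_mem ((mem_tau_iff G a n).1 hx) k

theorem tau_gcd {n m : ℕ} {x : G.left} (hn : x ∈ tau G n) (hm : x ∈ tau G m) : x ∈ tau G (n.gcd m) := by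
  obtain ⟨L, _, _, q, a, rfl⟩ := exists_geom G x
  rw [mem_tau_iff, ← mem_neutralSub] at hn hm ⊢
  rw [← zpow_natCast, Nat.gcd_eq_gcd_ab, zpow_add, zpow_mul, zpow_mul, zpow_natCast, zpow_natCast]
  exact mul_mem (zpow_mem hn _) (zpow_mem hm _)

theorem tau_one : tau G 1 = SGA3x.neutralSet G := by
  rw [tau, pow_one]
  rfl

/-- the points in a fibre of a power in the neutral component -/
theorem pow_mem_tau {n m : ℕ} {x : G.left} (h : ((𝟙 G : G ⟶ G) ^ n).left x ∈ tau G m) : x ∈ tau G (n * m) := by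
  obtain ⟨L, _, _, q, a, rfl⟩ := exists_geom G x
  rw [← pt_pow, mem_tau_iff, ← pow_mul] at h
  exact (mem_tau_iff G a _).2 h

end lft

variable [IsLocallyNoetherian S] [LocallyOfFiniteType G.hom]

omit [GrpObj G] in
theorem isLocallyNoetherian_left : IsLocallyNoetherian G.left := LocallyOfFiniteType.isLocallyNoetherian G.hom

omit [GrpObj G] in
theorem lfp : LocallyOfFinitePresentation G.hom :=
  LocallyOfFinitePresentation.iff_locallyOfFiniteType.2 inferInstance

theorem isLocallyConstructible_neutralSet : IsLocallyConstructible (SGA3x.neutralSet G) := by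
  have := lfp G
  have := isLocallyNoetherian_left G
  have : QuasiSeparated G.hom := inferInstance
  exact GrpDim.isLocallyConstructible_neutralSet G

theorem isLocallyConstructible_tau (n : ℕ) : IsLocallyConstructible (tau G n) :=
  ConsEngine.isLocallyConstructible_preimage _ (isLocallyConstructible_neutralSet G)

/-- the neutral component of a fibre lies in a compact open set -/
theorem exists_compact_open_comp0 (s : S) :
    ∃ W : G.left.Opens, IsCompact (W : Set G.left) ∧ GrpDim.comp0 G s ⊆ W := by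
  have := lfp G
  obtain ⟨V, P, hP, ψ, E, -, hsV, -, -, -, him⟩ := GrpDim.exists_image_eq G s
  let K := Set.range (ψ ≫ (G.hom ⁻¹ᵁ V).ι)
  have hK : IsCompact K := isCompact_range (Scheme.Hom.continuous _)
  have hsub : GrpDim.comp0 G s ⊆ K := fun x hx => by
    have hxs : G.hom x = s := Set.mem_preimage.1 (connectedComponentIn_subset _ _ hx)
    have hxV : G.hom x ∈ V := hxs ▸ hsV
    obtain ⟨p, -, hp⟩ : (⟨x, hxV⟩ : ↥(G.hom ⁻¹ᵁ V)) ∈ ψ '' E := by
      rw [him]
      exact (GrpDim.neutralSet_iff G x).2 (by rw [hxs]; exact hx)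
    exact ⟨p, by rw [Scheme.Hom.comp_apply, hp]; rfl⟩
  have hA : ∀ x : G.left, ∃ A : G.left.Opens, x ∈ A ∧ IsCompact (A : Set G.left) := fun x => by
    obtain ⟨A, hA, hxA, -⟩ := exists_isAffineOpen_mem_and_subset (show x ∈ (⊤ : G.left.Opens) from trivial)
    exact ⟨A, hxA, hA.isCompact⟩
  choose A hxA hAc using hA
  obtain ⟨t, ht⟩ := hK.elim_finite_subcover (fun x => (A x : Set G.left)) (fun x => (A x).2)
    (fun x _ => Set.mem_iUnion.2 ⟨x, hxA x⟩)
  refine ⟨⨆ x ∈ t, A x, ?_, fun x hx => ?_⟩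
  · simp only [Opens.coe_iSup]
    exact t.finite_toSet.isCompact_biUnion fun x _ => hAc x
  · simp only [Opens.coe_iSup]
    exact ht (hsub hx)

/-- Among infinitely many field valued points in a compact open two differ by a neutral point. -/
theorem exists_sub_mem (a : ℕ → (Over.mk q ⟶ G)) {W : G.left.Opens}
    (hW : IsCompact (W : Set G.left)) (ha : ∀ k, pt G (a k) ∈ W) :
    ∃ k l, k < l ∧ (a k)⁻¹ * a l ∈ neutralSub G q := by
  let T : Over S := Over.mk q
  let P := T ⊗ G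
  have hsnd : QuasiCompact (snd T G).left := inferInstanceAs (QuasiCompact (pullback.snd q G.hom))
  have hlft : LocallyOfFiniteType (fst T G).left := inferInstanceAs (LocallyOfFiniteType (pullback.fst q G.hom))
  have : IsLocallyNoetherian T.left := inferInstanceAs (IsLocallyNoetherian (Spec (CommRingCat.of L)))
  have : IsLocallyNoetherian P.left := LocallyOfFiniteType.isLocallyNoetherian (fst T G).left
  let U : P.left.Opens := (snd T G).left ⁻¹ᵁ W
  have hU : IsCompact (U : Set P.left) := (snd T G).left.isCompact_preimage hW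
  have : CompactSpace ↥(U : Scheme.{u}) := isCompact_iff_compactSpace.1 hU
  have : AlgebraicGeometry.IsNoetherian (U : Scheme.{u}) := ⟨⟩
  let b : ℕ → P.left := fun k => (lift (𝟙 T) (a k)).left (IsLocalRing.closedPoint L)
  have hb : ∀ k, (snd T G).left (b k) = pt G (a k) := fun k =>
    congrArg (fun c : T ⟶ G => c.left (IsLocalRing.closedPoint L)) (lift_snd (𝟙 T) (a k))
  have hbU : ∀ k, b k ∈ U := fun k => by
    show (snd T G).left (b k) ∈ W
    rw [hb]
    exact ha k
  have : Finite (irreducibleComponents ↥(U : Scheme.{u})) :=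
    (NoetherianSpace.finite_irreducibleComponents (α := ↥(U : Scheme.{u}))).to_subtype
  obtain ⟨k, l, hkl, hC⟩ := Finite.exists_ne_map_eq_of_infinite
    fun k => (⟨irreducibleComponent (⟨b k, hbU k⟩ : ↥(U : Scheme.{u})), irreducibleComponent_mem_irreducibleComponents _⟩ :
      irreducibleComponents ↥(U : Scheme.{u}))
  suffices key : ∀ k l, irreducibleComponent (⟨b k, hbU k⟩ : ↥(U : Scheme.{u})) = irreducibleComponent (⟨b l, hbU l⟩ : ↥(U : Scheme.{u})) →
      (a k)⁻¹ * a l ∈ neutralSub G q by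
    rcases lt_or_gt_of_ne hkl with h | h
    · exact ⟨k, l, h, key _ _ (congrArg Subtype.val hC)⟩
    · exact ⟨l, k, h, key _ _ (congrArg Subtype.val hC).symm⟩
  intro k l hkl
  let φ : P ⟶ G := (fst T G ≫ (a k)⁻¹) * snd T G
  have hφ : ∀ j, lift (𝟙 T) (a j) ≫ φ = (a k)⁻¹ * a j := fun j => by
    rw [MonObj.comp_mul, lift_fst_assoc, Category.id_comp, lift_snd]
  let C : Set P.left := Subtype.val '' irreducibleComponent (⟨b k, hbU k⟩ : ↥(U : Scheme.{u}))
  have hconn : _root_.IsPreconnected (φ.left '' C) :=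
    ((isIrreducible_irreducibleComponent.isConnected.isPreconnected).image _
      continuous_subtype_val.continuousOn).image _ φ.left.continuous.continuousOn
  have hmem : ∀ j, irreducibleComponent (⟨b k, hbU k⟩ : ↥(U : Scheme.{u})) = irreducibleComponent (⟨b j, hbU j⟩ : ↥(U : Scheme.{u})) →
      pt G ((a k)⁻¹ * a j) ∈ φ.left '' C := fun j hj => by
    refine ⟨b j, ⟨⟨b j, hbU j⟩, ?_, rfl⟩, ?_⟩
    · rw [hj]
      exact mem_irreducibleComponent
    · exact congrArg (fun c : T ⟶ G => c.left (IsLocalRing.closedPoint L)) (hφ j)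
  have h1 := hmem k rfl
  rw [inv_mul_cancel] at h1
  have hone := (GrpDim.neutralSet_iff G _).1 (mem_neutralSub G |>.1 (one_mem (neutralSub G q)))
  rw [hom_pt] at hone
  have hsub : φ.left '' C ⊆ G.hom.base ⁻¹' {q (IsLocalRing.closedPoint L)} := by
    rintro _ ⟨v, -, rfl⟩
    show G.hom (φ.left v) = q (IsLocalRing.closedPoint L)
    rw [← Scheme.Hom.comp_apply, Over.w, ← Over.w (fst T G), Scheme.Hom.comp_apply]
    exact congrArg q (Subsingleton.elim (α := PrimeSpectrum L) _ _)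
  rw [mem_neutralSub, GrpDim.neutralSet_iff, hom_pt, GrpDim.comp0, connectedComponentIn_eq hone]
  exact hconn.subset_connectedComponentIn h1 hsub (hmem l hkl)

/-- the torsion points are stable under generisation -/
theorem exists_tau_of_specializes {n : ℕ} (hn : 0 < n) {x₁ x₀ : G.left} (hx : x₁ ⤳ x₀) (h : x₀ ∈ tau G n) :
    ∃ m, 0 < m ∧ x₁ ∈ tau G m := by
  obtain ⟨W, hW, hsW⟩ := exists_compact_open_comp0 G (G.hom x₀)
  obtain ⟨L₀, _, _, q₀, a₀, ha₀⟩ := exists_geom G x₀
  obtain ⟨L₁, _, _, q₁, a₁, ha₁⟩ := exists_geom G x₁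
  have hk : ∀ k, pt G ((a₁ ^ n) ^ k) ∈ W := fun k => by
    rw [← pow_mul, pt_pow, ha₁]
    refine (hx.map ((𝟙 G : G ⟶ G) ^ (n * k)).left.continuous).mem_open W.2 (hsW ?_)
    have h0 : x₀ ∈ tau G (n * k) := tau_mono G (dvd_mul_right n k) h
    have h1 := (GrpDim.neutralSet_iff G _).1 h0
    rwa [pow_left_hom] at h1
  obtain ⟨k, l, hkl, hmem⟩ := exists_sub_mem G _ hW hk
  refine ⟨n * (l - k), Nat.mul_pos hn (Nat.sub_pos_of_lt hkl), ?_⟩
  rw [← ha₁, mem_tau_iff, pow_mul, pow_sub _ hkl.le, ← mem_neutralSub, ← inv_pow, inv_pow]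
  have : (a₁ ^ n) ^ l * ((a₁ ^ n) ^ k)⁻¹ = ((a₁ ^ n) ^ k)⁻¹ * (a₁ ^ n) ^ l := by
    simp only [← zpow_natCast, ← zpow_neg, ← zpow_add, ← zpow_mul, add_comm]
  rw [this]
  exact hmem

omit [GrpObj G] [LocallyOfFiniteType G.hom] [IsLocallyNoetherian S] in
/-- a countable union of locally constructible sets stable under generisation is open -/
theorem isOpen_iUnion_of_generization {X : Scheme.{u}} [IsLocallyNoetherian X] {κ : Type*} (T : κ → Set X)
    (hT : ∀ i, IsLocallyConstructible (T i))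
    (hgen : ∀ i x y, y ⤳ x → x ∈ T i → ∃ j, y ∈ T j) : IsOpen (⋃ i, T i) := by
  rw [isOpen_iff_mem_nhds]
  intro x hx
  obtain ⟨i, hi⟩ := Set.mem_iUnion.1 hx
  refine GeomFib.mem_nhds_of_forall_generization fun ζ hζ => ?_
  obtain ⟨j, hj⟩ := hgen i x ζ hζ hi
  obtain ⟨U, hU, hζU, -⟩ := exists_isAffineOpen_mem_and_subset (show ζ ∈ (⊤ : X.Opens) from trivial)
  have : IsNoetherianRing Γ(X, U) := IsLocallyNoetherian.component_noetherian ⟨U, hU⟩
  have : IsAffine (U : Scheme.{u}) := hU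
  obtain ⟨O, hO, hζO, hsub⟩ := NoethSober.exists_open_inter_closure_subset
    ((hT j).preimage_of_isOpenEmbedding U.ι.isOpenEmbedding).isConstructible (show (⟨ζ, hζU⟩ : ↥(U : Scheme.{u})) ∈ U.ι ⁻¹' T j from hj)
  refine ⟨U.ι ''ᵁ ⟨O, hO⟩, ⟨_, hζO, rfl⟩, ?_⟩
  rintro _ ⟨z, hz, rfl⟩ hspec
  refine Set.mem_iUnion.2 ⟨j, hsub ⟨hz, ?_⟩⟩
  exact specializes_iff_mem_closure.1 (U.ι.isOpenEmbedding.isInducing.specializes_iff.1
    (show U.ι ⟨ζ, hζU⟩ ⤳ U.ι z from hspec))

/-- **The torsion points form an open set.** -/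
theorem isOpen_tau : IsOpen (⋃ n : {n : ℕ // 0 < n}, tau G n) := by
  have := isLocallyNoetherian_left G
  refine isOpen_iUnion_of_generization _ (fun n => isLocallyConstructible_tau G n) fun n x y hyx hx => ?_
  obtain ⟨m, hm, hy⟩ := exists_tau_of_specializes G n.2 hyx hx
  exact ⟨⟨m, hm⟩, hy⟩

/-- **Bounded torsion on a compact open.** -/
theorem exists_bound {U : G.left.Opens} (hU : IsCompact (U : Set G.left)) :
    ∃ M, 0 < M ∧ ∀ x ∈ U, ∀ n, 0 < n → x ∈ tau G n → x ∈ tau G M := by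
  have := isLocallyNoetherian_left G
  have : CompactSpace ↥(U : Scheme.{u}) := isCompact_iff_compactSpace.1 hU
  have : AlgebraicGeometry.IsNoetherian (U : Scheme.{u}) := ⟨⟩
  suffices h : ∀ Z : Set ↥(U : Scheme.{u}), IsClosed Z → ∃ M, 0 < M ∧
      ∀ x ∈ Z, ∀ n, 0 < n → U.ι x ∈ tau G n → U.ι x ∈ tau G M by
    obtain ⟨M, hM, hb⟩ := h Set.univ isClosed_univ
    exact ⟨M, hM, fun x hx n hn h => hb ⟨x, hx⟩ trivial n hn h⟩
  refine NoethSober.induction_generic ⟨1, one_pos, fun x hx => hx.elim⟩ ?_ fun ζ ih => ?_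
  · rintro Z Z' ⟨M, hM, hb⟩ ⟨M', hM', hb'⟩
    refine ⟨M * M', Nat.mul_pos hM hM', ?_⟩
    rintro x (hx | hx) n hn h
    · exact tau_mono G (dvd_mul_right M M') (hb x hx n hn h)
    · exact tau_mono G (dvd_mul_left M' M) (hb' x hx n hn h)
  by_cases hζ : ∃ n, 0 < n ∧ U.ι ζ ∈ tau G n
  · obtain ⟨n₀, hn₀, hζ⟩ := hζ
    obtain ⟨O, hO, hζO, hsub⟩ := NoethSober.exists_open_inter_closure_subset
      ((isLocallyConstructible_tau G n₀).preimage_of_isOpenEmbedding U.ι.isOpenEmbedding).isConstructible hζ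
    obtain ⟨M, hM, hb⟩ := ih (closure {ζ} ∩ Oᶜ) (isClosed_closure.inter hO.isClosed_compl)
      Set.inter_subset_left fun h => h.2 hζO
    refine ⟨n₀ * M, Nat.mul_pos hn₀ hM, fun x hx n hn h => ?_⟩
    by_cases hxO : x ∈ O
    · exact tau_mono G (dvd_mul_right n₀ M) (hsub ⟨hxO, hx⟩)
    · exact tau_mono G (dvd_mul_left M n₀) (hb x ⟨hx, hxO⟩ n hn h)
  · exact ⟨1, one_pos, fun x hx n hn h => absurd (exists_tau_of_specializes G hn
      ((specializes_iff_mem_closure.2 hx).map U.ι.continuous) h) hζ⟩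

/-- A set which is, on compact opens, a union of bounded torsion sets is closed. -/
theorem isClosed_of_bound (E : Set G.left)
    (h : ∀ (U : G.left.Opens) (M : ℕ), 0 < M → (∀ x ∈ U, ∀ n, 0 < n → x ∈ tau G n → x ∈ tau G M) →
      ∃ C : Set G.left, IsClosed C ∧ ∀ x ∈ U, x ∈ E ↔ x ∈ C) : IsClosed E := by
  rw [← closure_subset_iff_isClosed]
  intro x hx
  obtain ⟨U, hU, hxU, -⟩ := exists_isAffineOpen_mem_and_subset (show x ∈ (⊤ : G.left.Opens) from trivial)
  obtain ⟨M, hM, hb⟩ := exists_bound G hU.isCompact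
  obtain ⟨C, hC, hiff⟩ := h U M hM hb
  refine (hiff x hxU).2 ?_
  have h1 : x ∈ closure ((U : Set G.left) ∩ E) := U.2.inter_closure ⟨hxU, hx⟩
  exact closure_minimal (fun y hy => (hiff y hy.1).1 hy.2) hC h1

theorem isClosed_tau (h0 : IsClosed (SGA3x.neutralSet G)) (n : ℕ) : IsClosed (tau G n) :=
  h0.preimage ((𝟙 G : G ⟶ G) ^ n).left.continuous

omit [GrpObj G] [LocallyOfFiniteType G.hom] [IsLocallyNoetherian S] in
/-- the points of residue characteristic dividing `q` form a closed set -/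
theorem isClosed_natCast_eq_zero (n : ℕ) : IsClosed {s : S | (n : S.residueField s) = 0} := by
  have : {s : S | (n : S.residueField s) = 0} = (S.basicOpen (n : Γ(S, ⊤)) : Set S)ᶜ := by
    ext s
    rw [Set.mem_compl_iff, SetLike.mem_coe, ← Scheme.evaluation_eq_zero_iff_notMem_basicOpen S s (U := ⊤) trivial,
      map_natCast]
    rfl
  rw [this]
  exact (S.basicOpen _).2.isClosed_compl

theorem pow_surjective [IsCommMonObj G] {n : ℕ} (hn : IsOpenMap ((𝟙 G : G ⟶ G) ^ n).left.base) {x : G.left}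
    (hx : x ∈ SGA3x.neutralSet G) :
    ∃ y ∈ SGA3x.neutralSet G, ((𝟙 G : G ⟶ G) ^ n).left y = x := by
  let s := G.hom x
  obtain ⟨O, hO⟩ := Unibranch.exists_opens_inter_eq G.hom s (x := η[G].left s) (GrpDim.hom_section G s)
  have hON : ∀ y, G.hom y = s → (y ∈ O ↔ y ∈ SGA3x.neutralSet G) := fun y hy => by
    rw [GrpDim.neutralSet_iff, hy]
    exact ⟨fun h => hO.le ⟨h, hy⟩, fun h => (hO.ge h).1⟩
  let O' : G.left.Opens := ⟨((𝟙 G : G ⟶ G) ^ n).left.base '' O, hn _ O.2⟩
  have hes : η[G].left s ∈ O' := by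
    obtain ⟨L, _, _, q, a, ha⟩ := exists_geom G (η[G].left s)
    have hq : q (IsLocalRing.closedPoint L) = s := by rw [← hom_pt G a, ha, GrpDim.hom_section]
    have h1 : pt G (1 : Over.mk q ⟶ G) = η[G].left s := by
      rw [pt, Hom.one_def, Over.comp_left, Scheme.Hom.comp_apply, ← hq]
      rfl
    refine ⟨η[G].left s, (hON _ (GrpDim.hom_section G s)).2 ?_, ?_⟩
    · rw [← h1]
      exact one_mem (neutralSub G q)
    · show ((𝟙 G : G ⟶ G) ^ n).left (η[G].left s) = η[G].left s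
      rw [← h1, ← pt_pow, one_pow]
  obtain ⟨w, hwx, hw1, -, hw2, -⟩ := GrpDim.exists_div G O' hes ((GrpDim.neutralSet_iff G x).1 hx)
  obtain ⟨L, _, _, q, t, ht⟩ : ∃ (L : Type u) (_ : Field L) (_ : IsAlgClosed L)
      (q : Spec (CommRingCat.of L) ⟶ S) (t : Over.mk q ⟶ G ⊗ G), t.left (IsLocalRing.closedPoint L) = w := by
    refine ⟨AlgebraicClosure ((G ⊗ G).left.residueField w), inferInstance, inferInstance,
      (Spec.map (CommRingCat.ofHom (algebraMap ((G ⊗ G).left.residueField w) _)) ≫ (G ⊗ G).left.fromSpecResidueField w) ≫ (G ⊗ G).hom,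
      Over.homMk (Spec.map (CommRingCat.ofHom (algebraMap ((G ⊗ G).left.residueField w) _)) ≫ (G ⊗ G).left.fromSpecResidueField w) rfl, ?_⟩
    show (Spec.map _ ≫ (G ⊗ G).left.fromSpecResidueField w) _ = w
    rw [Scheme.Hom.comp_apply, Scheme.fromSpecResidueField_apply]
  have hq : q (IsLocalRing.closedPoint L) = s := by
    rw [← hom_pt G (t ≫ snd G G)]
    show G.hom ((snd G G).left (t.left _)) = s
    rw [ht, hwx]
  have lift' : ∀ c : Over.mk q ⟶ G, pt G c ∈ O' → ∃ d ∈ neutralSub G q, d ^ n = c := fun c hc => by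
    let Y : Over S := Over.mk (O.ι ≫ G.hom)
    let j : Y ⟶ G := Over.homMk O.ι rfl
    let f : Y ⟶ G := j ≫ ((𝟙 G : G ⟶ G) ^ n)
    have hf : LocallyOfFiniteType f.left := by
      have : LocallyOfFiniteType (f.left ≫ G.hom) := by
        rw [Over.w]
        exact inferInstanceAs (LocallyOfFiniteType (O.ι ≫ G.hom))
      exact locallyOfFiniteType_of_comp f.left G.hom
    obtain ⟨z, hz, hzc⟩ := hc
    obtain ⟨d, hd⟩ := SubGen.Spread.exists_lift f q c ⟨⟨z, hz⟩, by
      rw [Over.comp_left, Scheme.Hom.comp_apply]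
      exact hzc⟩
    refine ⟨d ≫ j, (hON _ ((hom_pt G (d ≫ j)).trans hq)).1 (d.left (IsLocalRing.closedPoint L)).2, ?_⟩
    rw [← pow_eq, Category.assoc]
    exact hd
  obtain ⟨u, hu, hua⟩ := lift' (t ≫ fst G G) (by rw [pt, Over.comp_left, Scheme.Hom.comp_apply, ht]; exact hw1)
  obtain ⟨v, hv, hvb⟩ := lift' (t ≫ μ[G]) (by rw [pt, Over.comp_left, Scheme.Hom.comp_apply, ht]; exact hw2)
  refine ⟨pt G (u⁻¹ * v), mul_mem (inv_mem hu) hv, ?_⟩
  rw [← pt_pow, mul_pow, inv_pow, hua, hvb, show t ≫ μ[G] = (t ≫ fst G G) * (t ≫ snd G G) by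
    rw [Hom.mul_def, ← comp_lift_assoc, lift_fst_snd, Category.id_comp], inv_mul_cancel_left, pt,
    Over.comp_left, Scheme.Hom.comp_apply, ht, hwx]

/-- Generisations of points of `p`-power order have `p`-power order, when the prime-to-`p` powers are open. -/
theorem exists_pPower_of_specializes [IsCommMonObj G] {p : ℕ} (hp : p = 1 ∨ p.Prime)
    (hopen : ∀ n : ℕ, 0 < n → Nat.Coprime n p → IsOpenMap ((𝟙 G : G ⟶ G) ^ n).left.base)
    {h : ℕ} {x₁ x₀ : G.left} (hx : x₁ ⤳ x₀) (hx₀ : x₀ ∈ tau G (p ^ h)) :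
    ∃ j : ℕ, x₁ ∈ tau G (p ^ j) := by
  have hppos : 0 < p := hp.elim (fun h => h ▸ one_pos) Nat.Prime.pos
  let y₀ := ((𝟙 G : G ⟶ G) ^ (p ^ h)).left x₀
  have hy₀ : y₀ ∈ SGA3x.neutralSet G := hx₀
  let y₁ := ((𝟙 G : G ⟶ G) ^ (p ^ h)).left x₁
  have hy : y₁ ⤳ y₀ := hx.map ((𝟙 G : G ⟶ G) ^ (p ^ h)).left.continuous
  obtain ⟨W, hW, hsW⟩ := exists_compact_open_comp0 G (G.hom y₀)
  obtain ⟨M, hM, hb⟩ := exists_bound G hW
  obtain ⟨a, n, hn, hMn⟩ : ∃ a n : ℕ, Nat.Coprime n p ∧ M = p ^ a * n := by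
    rcases hp with rfl | hp
    · exact ⟨0, M, Nat.coprime_one_right M, by simp⟩
    · exact ⟨M.factorization p, ordCompl[p] M, (Nat.coprime_ordCompl hp hM.ne').symm,
        (Nat.ordProj_mul_ordCompl_eq_self M p).symm⟩
  have hnpos : 0 < n := Nat.pos_of_mul_pos_left (hMn ▸ hM)
  obtain ⟨z, hz, hzy⟩ := pow_surjective G (hopen n hnpos hn) hy₀
  let O : Set G.left := W ∩ ⋃ m : {m : ℕ // 0 < m}, tau G m
  have hzO : z ∈ O := by
    refine ⟨hsW ?_, Set.mem_iUnion.2 ⟨⟨1, one_pos⟩, by rw [tau_one]; exact hz⟩⟩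
    rw [← hzy, pow_left_hom]
    exact (GrpDim.neutralSet_iff G z).1 hz
  obtain ⟨z₁, ⟨hz₁W, hz₁T⟩, hz₁⟩ := hy.mem_open (hopen n hnpos hn O (W.2.inter (isOpen_tau G))) ⟨z, hzO, hzy⟩
  obtain ⟨m, hm⟩ := Set.mem_iUnion.1 hz₁T
  have h1 : z₁ ∈ tau G M := hb z₁ hz₁W m m.2 hm
  refine ⟨h + a, ?_⟩
  obtain ⟨L, _, _, q, b, rfl⟩ := exists_geom G z₁
  rw [mem_tau_iff, hMn, mul_comm, pow_mul] at h1
  have h2 : y₁ ∈ tau G (p ^ a) := by
    rw [show y₁ = pt G (b ^ n) from ((pt_pow G b n).trans hz₁).symm, mem_tau_iff]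
    exact h1
  rw [pow_add]
  exact pow_mem_tau G h2

theorem isOpen_pPower [IsCommMonObj G] {p : ℕ} (hp : p = 1 ∨ p.Prime)
    (hopen : ∀ n : ℕ, 0 < n → Nat.Coprime n p → IsOpenMap ((𝟙 G : G ⟶ G) ^ n).left.base) :
    IsOpen (⋃ h : ℕ, tau G (p ^ h)) := by
  have := isLocallyNoetherian_left G
  exact isOpen_iUnion_of_generization _ (fun h => isLocallyConstructible_tau G _)
    fun h x y hyx hx => exists_pPower_of_specializes G hp hopen hyx hx

end Groth.Agent.TauSet
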